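import Cfsg.Agent.Lib.J4Orbits.EFix

/-!
# The seven orbits of the point stabiliser
-/

set_option autoImplicit false
set_option maxRecDepth 100000

namespace CfsgLib.J4Orbits

open Cfsg.Spor CfsgLib.J4P CfsgLib.J4Index

/-- A cover by sets with exact total bound: the union over a set of indices has exactly that total. -/
theorem ncard_of_cover {X : Type*} [Finite X] {ι : Type*} [Fintype ι] [DecidableEq ι] (S : ι → Set X)
    (n : ι → ℕ) (hcov : ∀ x, ∃ i, x ∈ S i) (hle : ∀ i, (S i).ncard ≤ n i)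
    (hsum : ∑ i, n i = Nat.card X) (T : Finset ι) (O : Set X) (hin : ∀ i ∈ T, S i ⊆ O)
    (hout : ∀ i ∉ T, ∀ x ∈ S i, x ∉ O) : O.ncard = ∑ i ∈ T, n i := by
  classical
  have hun : ∀ U : Finset ι, (⋃ i ∈ U, S i).ncard ≤ ∑ i ∈ U, n i := fun U =>
    (Finset.set_ncard_biUnion_le U S).trans (Finset.sum_le_sum fun i _ => hle i)
  have h1 : O ⊆ ⋃ i ∈ T, S i := fun x hx => by
    obtain ⟨i, hi⟩ := hcov x
    have : i ∈ T := by_contra fun h => hout i h x hi hx
    exact Set.mem_iUnion₂.2 ⟨i, this, hi⟩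
  have h2 : Oᶜ ⊆ ⋃ i ∈ Finset.univ \ T, S i := fun x hx => by
    obtain ⟨i, hi⟩ := hcov x
    have : i ∉ T := fun h => hx (hin i h hi)
    exact Set.mem_iUnion₂.2 ⟨i, by simp [this], hi⟩
  have e1 := (Set.ncard_le_ncard h1 (Set.toFinite _)).trans (hun _)
  have e2 := (Set.ncard_le_ncard h2 (Set.toFinite _)).trans (hun _)
  have e3 := Set.ncard_add_ncard_compl O
  have e4 := Finset.sum_sdiff (f := n) (Finset.subset_univ T)
  omega

/-- The bounds of the twenty orbits. -/
def sizes : Fin 20 → ℕ :=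
  ![1, 3795, 318780, 1275120, 5100480, 1912680, 478170, 11385, 26565, 2550240, 2550240, 53130, 1771,
    212520, 15301440, 7650720, 40803840, 81607680, 12241152, 967680]

/-- The class of a vertex. -/
def cls : Fin 20 → Fin 7 :=
  ![0, 1, 3, 5, 4, 5, 3, 1, 2, 3, 5, 3, 2, 5, 4, 5, 5, 6, 4, 6]

/-- The vertex chosen in a class. -/
def rep : Fin 7 → Fin 20 := ![0, 1, 12, 11, 4, 13, 19]

/-- The sizes of the classes. -/
def big : Fin 7 → ℕ := ![1, 15180, 28336, 3400320, 32643072, 54405120, 82575360]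

/-- The vertices. -/
noncomputable def vtx (i : Fin 20) : Cfsg.Spor.J4 ⧸ kp := el (paths.getD i.val []) • base

/-- The twenty orbits of the subgroup generated by x and y. -/
noncomputable def small (i : Fin 20) : Set (Cfsg.Spor.J4 ⧸ kp) := orbSet j4Ctx (vtx i)

/-- The orbits of the point stabiliser. -/
noncomputable def orb (j : Fin 7) : Set (Cfsg.Spor.J4 ⧸ kp) := MulAction.orbit kp (vtx (rep j))

theorem vtx_vlist (i : Fin 20) : vtx i = (vlist j4Ctx).getD i.val base := by
  rw [vlist_eq, List.getD_eq_getElem _ _ (by simp [paths]), List.getElem_map, vtx,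
    List.getD_eq_getElem _ _ (by simp [paths])]

theorem small_le (i : Fin 20) : (small i).ncard ≤ sizes i := by
  rw [small, vtx_vlist]
  fin_cases i
  exacts [(orbit0 j4Ctx).2, (orbit1 j4Ctx).2, (orbit2 j4Ctx).2, (orbit3 j4Ctx).2, (orbit4 j4Ctx).2,
    (orbit5 j4Ctx).2, (orbit6 j4Ctx).2, (orbit7 j4Ctx).2, (orbit8 j4Ctx).2, (orbit9 j4Ctx).2,
    (orbit10 j4Ctx).2, (orbit12 j4Ctx).2, (orbit13 j4Ctx).2, (orbit14 j4Ctx).2, (orbit15 j4Ctx).2,
    (orbit16 j4Ctx).2, (orbit17 j4Ctx).2, (orbit18 j4Ctx).2, (orbit19 j4Ctx).2, (orbit20 j4Ctx).2]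

theorem index_kp : kp.index = 173067389 :=
  (J4G.of_index_le J4Index.index_ne_zero J4Index.index_le).2.1

theorem card_points : Nat.card (Cfsg.Spor.J4 ⧸ kp) = 173067389 := index_kp

theorem card_kp_eq : Nat.card kp = 501397585920 := by
  have h := kp.card_mul_index
  rw [index_kp, J4Kp.card_eq] at h
  exact Nat.eq_of_mul_eq_mul_right (by norm_num : 0 < 173067389) (h.trans (by norm_num))

theorem sum_sizes : ∑ i, sizes i = Nat.card (Cfsg.Spor.J4 ⧸ kp) := by
  rw [card_points]; decide +kernel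

theorem cover (q : Cfsg.Spor.J4 ⧸ kp) : ∃ i, q ∈ small i := by
  obtain ⟨g, rfl⟩ := MulAction.exists_smul_eq Cfsg.Spor.J4 base q
  obtain ⟨m, hm, v, hv, e⟩ :=
    mem_union j4Ctx all_rows (v0_mem j4Ctx) (vlist_good j4Ctx) j4_gen g
  obtain ⟨k, hk, rfl⟩ := List.getElem_of_mem hv
  have hk' : k < 20 := by simpa [vlist] using hk
  refine ⟨⟨k, hk'⟩, m, hm, ?_⟩
  rw [vtx_vlist, List.getD_eq_getElem _ _ hk]
  exact e

theorem cls_rep (j : Fin 7) : cls (rep j) = j := by fin_cases j <;> rfl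

/-- Every vertex is joined to the one chosen in its class. -/
theorem join_checks : ∀ i : Fin 20, rep (cls i) = i ∨
    joins.any (fun e => decide (e.1 = i.val) && decide (e.2.1 = (rep (cls i)).val)) = true ∨
    ∃ m : Fin 20, joins.any (fun e => decide (e.1 = i.val) && decide (e.2.1 = m.val)) = true ∧
      joins.any (fun e => decide (e.1 = m.val) && decide (e.2.1 = (rep (cls i)).val)) = true := by
  decide +kernel

theorem join_vtx {a b : Fin 20}
    (h : joins.any (fun e => decide (e.1 = a.val) && decide (e.2.1 = b.val)) = true) :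
    vtx a ∈ MulAction.orbit kp (vtx b) := by
  simp only [List.any_eq_true, Bool.and_eq_true, decide_eq_true_eq] at h
  obtain ⟨⟨a', b', L, p⟩, he, rfl, rfl⟩ := h
  obtain ⟨k, hk, e⟩ := join_orbit he
  refine ⟨⟨k, hk⟩⁻¹, ?_⟩
  show (⟨k, hk⟩ : kp)⁻¹ • vtx b = vtx a
  rw [inv_smul_eq_iff]
  exact e.symm

theorem vtx_mem (i : Fin 20) : vtx i ∈ orb (cls i) := by
  rcases join_checks i with h | h | ⟨m, h1, h2⟩
  · rw [orb, h]; exact MulAction.mem_orbit_self _
  · exact join_vtx h
  · rw [orb, ← MulAction.orbit_eq_iff.2 (join_vtx h2)]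
    exact join_vtx h1

theorem small_sub (i : Fin 20) : small i ⊆ orb (cls i) := by
  rintro q ⟨m, hm, rfl⟩
  have hmk : m ∈ kp := by
    refine (Subgroup.closure_le _).2 ?_ hm
    rintro p (rfl | rfl)
    · exact ⟨J4.x, Subgroup.subset_closure (Or.inl rfl), rfl⟩
    · exact ⟨J4.y, Subgroup.subset_closure (Or.inr (Or.inl rfl)), rfl⟩
  rw [orb, ← MulAction.orbit_eq_iff.2 (vtx_mem i)]
  exact MulAction.mem_orbit (vtx i) (⟨m, hmk⟩ : kp)

theorem orb_cover (q : Cfsg.Spor.J4 ⧸ kp) : ∃ j, q ∈ orb j := by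
  obtain ⟨i, hi⟩ := cover q
  exact ⟨cls i, small_sub i hi⟩

theorem vertices_finite : Finite (Cfsg.Spor.J4 ⧸ kp) := cosets_finite

open scoped Classical in
theorem orb_ncard (j : Fin 7) :
    (orb j).ncard = ∑ i ∈ Finset.univ.filter (fun i => orb (cls i) = orb j), sizes i := by
  haveI := vertices_finite
  refine ncard_of_cover small sizes cover small_le sum_sizes _ _ (fun i hi => ?_) fun i hi x hx hxO => hi ?_
  · rw [← (Finset.mem_filter.1 hi).2]; exact small_sub i
  · refine Finset.mem_filter.2 ⟨Finset.mem_univ _, ?_⟩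
    rw [orb, orb, ← MulAction.orbit_eq_iff.2 (show x ∈ MulAction.orbit kp (vtx (rep j)) from hxO),
      ← MulAction.orbit_eq_iff.2 (show x ∈ MulAction.orbit kp (vtx (rep (cls i))) from small_sub i hx)]

theorem card_orbit_mul {G X : Type*} [Group G] [MulAction G X] (K : Subgroup G) (v : X) :
    Nat.card ↥(K ⊓ MulAction.stabilizer G v) * (MulAction.orbit K v).ncard = Nat.card K := by
  have h := (MulAction.stabilizer K v).card_mul_index
  rw [MulAction.index_stabilizer] at h
  convert h using 2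
  refine Nat.card_congr ⟨fun p => ⟨⟨p.1, p.2.1⟩, p.2.2⟩, fun p => ⟨p.1.1, p.1.2, p.2⟩,
    fun p => rfl, fun p => rfl⟩

theorem mask_checks : ∀ j : Fin 7, ∀ T : Finset (Fin 7), j ∈ T →
    (∑ i ∈ Finset.univ.filter (fun i => cls i ∈ T), sizes i) ∣ 501397585920 →
      T = {j} ∨ (T = {4, 5}) := by
  decide +kernel

theorem orb_exact (j : Fin 7) :
    (orb j).ncard = big j ∧ ∀ k, orb k = orb j → k = j := by
  classical
  let T : Finset (Fin 7) := Finset.univ.filter fun k => orb k = orb j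
  have e : (orb j).ncard = ∑ i ∈ Finset.univ.filter (fun i => cls i ∈ T), sizes i := by
    rw [orb_ncard]
    exact Finset.sum_congr (by ext i; simp [T]) fun _ _ => rfl
  have hmul := card_orbit_mul kp (vtx (rep j))
  rw [card_kp_eq] at hmul
  change _ * (orb j).ncard = _ at hmul
  have hdvd : (orb j).ncard ∣ 501397585920 := Dvd.intro_left _ hmul
  rcases mask_checks j T (by simp [T]) (e ▸ hdvd) with hT | hT
  · refine ⟨?_, fun k hk => Finset.mem_singleton.1 (hT ▸ (by simp [T, hk] : k ∈ T))⟩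
    rw [e, hT]
    fin_cases j <;> decide +kernel
  · exfalso
    have h5 : orb 5 = orb j := by
      have : (5 : Fin 7) ∈ T := by rw [hT]; decide
      simpa [T] using this
    have h4 : orb 4 = orb j := by
      have : (4 : Fin 7) ∈ T := by rw [hT]; decide
      simpa [T] using this
    have hv : vtx 13 ∈ MulAction.orbit kp (vtx 4) := by
      have : vtx (rep 5) ∈ orb 4 := h4.trans h5.symm ▸ MulAction.mem_orbit_self _
      exact this
    obtain ⟨⟨k, hk⟩, hk2⟩ := hv
    have hk3 : k • vtx 4 = vtx 13 := hk2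
    obtain ⟨f, hf, hne, hfix⟩ := exists_fix_four
    have h1 := fix_thirteen (conj_E0 hk hf) (by
      show (k * f * k⁻¹) • vtx 13 = vtx 13
      rw [← hk3, mul_smul, inv_smul_smul, mul_smul]
      exact congrArg _ hfix)
    exact hne (conj_eq_one_iff.1 h1)

/-- Seven orbits of the stated sizes. -/
theorem seven_orbits :
    ∃ c : Fin 7 → Cfsg.Spor.J4 ⧸ kp,
      (∀ i j : Fin 7, i ≠ j → MulAction.orbit kp (c i) ≠ MulAction.orbit kp (c j)) ∧
      (∀ q, ∃ i : Fin 7, q ∈ MulAction.orbit kp (c i)) ∧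
      (List.ofFn fun i => (MulAction.orbit kp (c i)).ncard) =
        [1, 15180, 28336, 3400320, 32643072, 54405120, 82575360] := by
  refine ⟨fun j => vtx (rep j), fun i j hne h => hne ((orb_exact j).2 i h), orb_cover, ?_⟩
  rw [show (fun i => (MulAction.orbit kp (vtx (rep i))).ncard) = big from
    funext fun i => (orb_exact i).1]
  decide +kernel

end CfsgLib.J4Orbits
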