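import Cfsg.Agent.Lib.J4Orbits.Vec

/-!
# The paths to the twenty vertices and elements joining them
-/

set_option autoImplicit false
set_option maxRecDepth 100000

namespace CfsgLib.J4Orbits

open CfsgLib.J4Index

/-- The path to vertex 0. -/
def path0 : List ℕ := []

/-- The path to vertex 1. -/
def path1 : List ℕ := 4 :: (J4Index.flat [] ++ path0)

/-- The path to vertex 2. -/
def path2 : List ℕ := 4 :: (J4Index.flat [7] ++ path1)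

/-- The path to vertex 3. -/
def path3 : List ℕ := 4 :: (J4Index.flat [20, 40, 66, 78, 91, 109, 118] ++ path2)

/-- The path to vertex 4. -/
def path4 : List ℕ := 4 :: (J4Index.flat [20] ++ path1)

/-- The path to vertex 5. -/
def path5 : List ℕ := 4 :: (J4Index.flat [18, 44] ++ path2)

/-- The path to vertex 6. -/
def path6 : List ℕ := 4 :: (J4Index.flat [10, 50] ++ path5)

/-- The path to vertex 7. -/
def path7 : List ℕ := 4 :: (J4Index.flat [10, 34, 60] ++ path6)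

/-- The path to vertex 8. -/
def path8 : List ℕ := 4 :: (J4Index.flat [20, 50] ++ path7)

/-- The path to vertex 9. -/
def path9 : List ℕ := 4 :: (J4Index.flat [6, 34] ++ path8)

/-- The path to vertex 10. -/
def path10 : List ℕ := 4 :: (J4Index.flat [21, 44] ++ path8)

/-- The path to vertex 11. -/
def path11 : List ℕ := 4 :: (J4Index.flat [35, 66, 84, 105, 109, 115] ++ path10)

/-- The path to vertex 12. -/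
def path12 : List ℕ := 4 :: (J4Index.flat [6] ++ path11)

/-- The path to vertex 13. -/
def path13 : List ℕ := 4 :: (J4Index.flat [14, 48, 64, 73, 93, 109, 113] ++ path12)

/-- The path to vertex 14. -/
def path14 : List ℕ := 4 :: (J4Index.flat [7, 43] ++ path12)

/-- The path to vertex 15. -/
def path15 : List ℕ := 4 :: (J4Index.flat [24, 45] ++ path5)

/-- The path to vertex 16. -/
def path16 : List ℕ := 4 :: (J4Index.flat [5, 37, 63, 84, 106, 110, 118] ++ path5)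

/-- The path to vertex 17. -/
def path17 : List ℕ := 4 :: (J4Index.flat [17] ++ path8)

/-- The path to vertex 18. -/
def path18 : List ℕ := 4 :: (J4Index.flat [17] ++ path2)

/-- The path to vertex 19. -/
def path19 : List ℕ := 4 :: (J4Index.flat [23, 46, 56, 83, 103, 124] ++ path4)

/-- The path to vertex 20. -/
def path20 : List ℕ := 4 :: (J4Index.flat [9, 28] ++ path3)

/-- All paths. -/
def paths : List (List ℕ) := [path0, path1, path2, path3, path4, path5, path6, path7, path8, path9, path10, path12, path13, path14, path15, path16, path17, path18, path19, path20]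

/-- Segments of an element of the point stabiliser, its partner, and the two vertices. -/
def joins : List (ℕ × ℕ × List (Option (List ℕ)) × List ℕ) := [
  (7, 1, [none, some [0, 2, 2, 0, 3, 2, 3, 0, 0, 2, 3, 2, 0, 3, 3, 2, 0, 0, 3, 2, 0, 2, 2, 2, 3, 0, 2, 2, 3, 3, 2, 3, 2, 0, 3, 0, 3, 0, 0]], [2, 0, 3, 0, 2, 0, 2, 0, 2, 0, 2, 0, 2, 0, 2, 0, 2, 0, 2, 0, 2]),
  (8, 12, [none, some [2, 0, 3, 3, 2, 0, 3, 2, 2, 2, 0, 3, 3, 2, 3, 3, 0, 3, 0, 2, 0, 3]], [3, 0, 2, 0, 3, 0, 3, 0, 3, 0, 3, 0, 3, 0, 3, 0]),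
  (2, 11, [none, some [2, 0, 0, 2, 0, 3, 2, 2, 0, 2]], [0, 2, 0, 3, 0, 2, 0, 3, 0, 3, 0, 2, 0, 3, 0, 2, 0, 2, 0, 3, 0, 3, 0, 3, 0, 3, 0, 2]),
  (6, 2, [none, some [3, 2, 3, 3, 3, 2, 0, 2, 0, 3]], [0, 2, 0, 2, 0, 3, 0, 2, 0, 2, 0, 2, 0, 3, 0, 2, 0, 3, 0, 3, 0, 2, 0, 3, 0, 2, 0, 2]),
  (9, 11, [none, some [3, 2, 3, 0, 3, 3, 3, 2], none, some [0, 0, 0, 0, 0, 2, 2], none, some [0]], [0, 2, 0, 2, 0, 2, 0, 2, 0, 3, 0, 3, 0, 3, 0, 2, 0, 3, 0, 2, 0, 3, 0, 3, 0, 3]),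
  (18, 4, [none, some [0, 0, 0, 0, 2, 2, 2, 0, 2, 3, 3, 0, 3, 0, 0, 3, 2]], [0, 2, 0, 2, 0, 2, 0, 3, 0, 3, 0, 3, 0, 3, 0, 3, 0, 2, 0, 2, 0, 2, 0, 3, 0, 2, 0, 3, 0, 2]),
  (14, 4, [none, some [3, 3, 2, 2, 2, 2, 2, 0, 3, 3, 0, 2, 2, 2, 2, 3, 2, 3, 2, 3, 2, 2, 3, 0, 0, 2, 2, 2], none, some [3, 2, 0, 3, 3, 0, 2, 0, 2, 0, 3], none, some [3, 3, 3, 0, 3, 2, 0, 2, 2, 2, 2, 0, 3, 2]], [0, 3, 0, 3, 0, 2, 0, 2, 0, 3, 0, 3, 0, 3, 0, 3, 0, 3, 0, 3, 0, 2, 0, 3, 0, 2, 0, 3, 0, 3, 0, 2, 0, 3, 0, 2, 0, 3, 0]),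
  (3, 13, [none, some [2, 2, 3, 2, 3, 3, 2, 0, 0, 0, 3, 0, 0, 3, 0, 2, 2, 0, 2, 0, 3, 3, 0, 0, 3, 0, 2, 2, 3, 0, 2, 3, 3, 0, 3, 2, 3]], [3, 0, 3, 0, 2, 0, 3, 0, 3, 0, 3, 0, 3, 0, 2, 0, 2, 0, 3, 0, 3, 0, 3, 0, 3, 0, 2, 0, 3, 0, 3]),
  (5, 13, [none, some [3, 0, 0, 0, 2, 0, 2, 2, 0, 2, 3, 2, 2, 0, 0, 2, 0, 2, 3, 0, 3, 2, 0, 0, 3, 3, 0, 2, 0, 2, 0, 3, 2, 3, 0, 3, 2, 2]], [0, 2, 0, 3, 0, 3, 0, 2, 0, 3, 0, 3, 0, 2, 0, 2, 0, 2, 0, 3, 0, 2, 0, 3, 0, 2, 0, 3, 0, 2]),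
  (10, 13, [none, some [0, 2, 2, 3, 2, 2, 2, 2, 2, 2, 0, 2, 2, 2, 0, 0, 0, 2, 3, 2, 0, 3, 2, 3, 3, 3, 3, 0], none, some [3, 3, 2, 3, 2, 2, 2, 2, 0, 0]], [3, 0, 2, 0, 2, 0, 2, 0, 2, 0, 2, 0, 2, 0, 2, 0, 3, 0, 2, 0, 2, 0, 3, 0, 3, 0, 2, 0, 3]),
  (15, 13, [none, some [2, 2, 2, 0, 3, 2, 2, 3, 2, 0, 2, 2, 3, 2, 2, 2, 3, 3, 2, 3, 0, 2, 2, 2, 3, 3, 0]], [2, 0, 2, 0, 2, 0, 2, 0, 2, 0, 2, 0, 2, 0, 2, 0, 2, 0, 3, 0, 2, 0, 3, 0, 2, 0, 2, 0, 2, 0, 2]),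
  (16, 13, [none, some [2, 0, 0, 0, 0, 0, 3, 2, 0, 0, 2, 0, 3, 0], none, some [3, 3, 2, 2, 3, 3, 0]], [3, 0, 2, 0, 2, 0, 3, 0, 2, 0, 3, 0, 2, 0, 3, 0, 2, 0, 3, 0, 3, 0, 3, 0, 2, 0, 2, 0, 2]),
  (17, 19, [none, some [2, 0, 2, 0, 0, 0, 2, 3, 2, 0, 3, 3, 0, 0, 2, 2, 3, 2, 3, 0, 3, 2, 0, 0, 2, 2, 2, 3, 0, 0]], [0, 3, 0, 2, 0, 2, 0, 3, 0, 3, 0, 3, 0, 2, 0, 3, 0, 2, 0, 3, 0, 2, 0, 3, 0, 3, 0, 3, 0, 2, 0, 3, 0, 2, 0, 2, 0])]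

end CfsgLib.J4Orbits
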