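import Cfsg.Agent.Lib.J4Orbits.Sep
import Cfsg.Agent.Lib.J4Orbits.EData

/-!
# The elementary abelian subgroup and the vertices it moves
-/

set_option autoImplicit false
set_option maxRecDepth 100000

namespace CfsgLib.J4Orbits

open Cfsg.Spor CfsgLib.J4P CfsgLib.J4Index Matrix
open CfsgLib.J4G (Row GL2 Rep bsP bsG eG gE)

/-- The rows selected by the bits act in turn. -/
def applyE : List (List ℕ) → ℕ → ℕ → ℕ
  | [], _, v => v
  | R :: L, u, v => applyE L (u / 2) (if Nat.beq (u % 2) 1 then vmB R v else v)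

theorem erows_ok : (bsP.map J4G.rowsP == erows) = true := by decide +kernel

theorem applyE_spec_aux : ∀ {l : List GL2} {lP : List ℕ}, List.Forall₂ Rep l lP → ∀ u v : ℕ,
    toRow (applyE (lP.map J4G.rowsP) u v) =
      toRow v ᵥ* ((J4G.eL l u : GL2) : Matrix (Fin 112) (Fin 112) (ZMod 2))
  | _, _, .nil, u, v => by simp [applyE, J4G.eL]
  | _, _, .cons (a := b) (b := P) hb ht, u, v => by
    rw [List.map_cons, applyE, applyE_spec_aux ht, J4G.eL]
    split_ifs with h
    · rw [Units.val_mul, ← vecMul_vecMul, toRow_vmB (J4G.rowsP_ok P).1, hb.2,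
        ← J4G.toMatP_packR (J4G.rowsP_ok P).2, Nat.eq_of_beq_eq_true hb.1]
    · rfl

theorem applyE_spec (u v : ℕ) :
    toRow (applyE erows u v) = toRow v ᵥ* ((eG u : GL2) : Matrix (Fin 112) (Fin 112) (ZMod 2)) := by
  rw [← eq_of_beq erows_ok]
  exact applyE_spec_aux J4G.bsG_rep u v

/-- The packed image of a vertex. -/
def vP (i : ℕ) : ℕ := ev (paths.getD i []) v0P

theorem split_low : ((List.range 2048).all fun u => Nat.beq ((u % 64) ^^^ (64 * (u / 64))) u) = true := by
  decide +kernel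

theorem low_ok : ((List.range 64).all fun i => Nat.beq (applyE erows i (vP 13)) (lowImg.getD i 0)) = true := by
  decide +kernel

theorem high_ok :
    ((List.range 32).all fun j => Nat.beq (applyE erows (64 * j) (vP 13)) (highImg.getD j 0)) = true := by
  decide +kernel

theorem img_lt : ((lowImg ++ highImg).all fun a => Nat.blt a (2 ^ 112)) = true ∧
    lowImg.length = 64 ∧ highImg.length = 32 := by
  decide +kernel

theorem img_ne : ((List.range 64).all fun i => (List.range 32).all fun j =>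
    (Nat.beq i 0 && Nat.beq j 0) || !Nat.beq (lowImg.getD i 0) (highImg.getD j 0)) = true := by
  decide +kernel

theorem fix_four : Nat.beq (applyE erows 1725 (vP 4)) (vP 4) = true := by decide +kernel

theorem ev_path (i : ℕ) : ev (paths.getD i []) v0P = vP i := rfl

attribute [local irreducible] ev applyE vP el toRow phi

theorem toRow_inj {a b : ℕ} (ha : a < 2 ^ 112) (hb : b < 2 ^ 112) (h : toRow a = toRow b) : a = b := by
  refine Nat.eq_of_testBit_eq fun j => ?_
  by_cases hj : j < 112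
  · have := congrFun h ⟨j, hj⟩
    unfold toRow at this
    revert this
    cases a.testBit j <;> cases b.testBit j <;> simp [bitZ]
  · have hp : 2 ^ 112 ≤ 2 ^ j := Nat.pow_le_pow_right (by norm_num) (by omega)
    rw [Nat.testBit_eq_false_of_lt (lt_of_lt_of_le ha hp), Nat.testBit_eq_false_of_lt (lt_of_lt_of_le hb hp)]

theorem moved {u : ℕ} (hu : u < 2048)
    (h : toRow (vP 13) ᵥ* ((eG u : GL2) : Matrix (Fin 112) (Fin 112) (ZMod 2)) = toRow (vP 13)) : u = 0 := by
  have hs := Nat.eq_of_beq_eq_true (List.all_eq_true.1 split_low u (List.mem_range.2 hu))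
  have hi : u % 64 < 64 := Nat.mod_lt _ (by norm_num)
  have hj : u / 64 < 32 := by omega
  rw [← hs, J4G.eG_xor, Units.val_mul, ← vecMul_vecMul] at h
  have h2 : toRow (vP 13) ᵥ* ((eG (u % 64) : GL2) : Matrix (Fin 112) (Fin 112) (ZMod 2)) =
      toRow (vP 13) ᵥ* ((eG (64 * (u / 64)) : GL2) : Matrix (Fin 112) (Fin 112) (ZMod 2)) := by
    conv_rhs => rw [← h]
    rw [vecMul_vecMul _ _ _, ← Units.val_mul, J4G.eG_self, Units.val_one, vecMul_one]
  rw [← applyE_spec, ← applyE_spec,
    Nat.eq_of_beq_eq_true (List.all_eq_true.1 low_ok _ (List.mem_range.2 hi)),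
    Nat.eq_of_beq_eq_true (List.all_eq_true.1 high_ok _ (List.mem_range.2 hj))] at h2
  obtain ⟨hlt, hl, hh⟩ := img_lt
  simp only [List.all_eq_true, Nat.blt_eq, List.mem_append] at hlt
  have e := toRow_inj
    (hlt _ (Or.inl (by rw [List.getD_eq_getElem _ _ (hl ▸ hi)]; exact List.getElem_mem _)))
    (hlt _ (Or.inr (by rw [List.getD_eq_getElem _ _ (hh ▸ hj)]; exact List.getElem_mem _))) h2
  have hn := List.all_eq_true.1 (List.all_eq_true.1 img_ne _ (List.mem_range.2 hi)) _ (List.mem_range.2 hj)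
  rw [e, Bool.or_eq_true, Bool.and_eq_true, Nat.beq_eq, Nat.beq_eq] at hn
  rcases hn with ⟨a, b⟩ | h3
  · omega
  · rw [Bool.not_eq_true', Nat.beq_refl] at h3
    exact Bool.noConfusion h3

/-- The elementary abelian subgroup of the presented group. -/
noncomputable def E0 : Subgroup Cfsg.Spor.J4 := gE.comap rho

theorem mem_E0 {e : Cfsg.Spor.J4} : e ∈ E0 ↔ rho e ∈ gE := Iff.rfl

theorem exists_E0 (u : ℕ) : ∃ e ∈ E0, rho e = eG u := by
  have h : eG u ∈ J4G.kpG.map rho := J4G.map_kpG ▸ J4G.gE_le ⟨u, rfl⟩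
  obtain ⟨e, -, he⟩ := h
  exact ⟨e, mem_E0.2 (he ▸ ⟨u, rfl⟩), he⟩

theorem conj_E0 {k e : Cfsg.Spor.J4} (hk : k ∈ kp) (he : e ∈ E0) : k * e * k⁻¹ ∈ E0 := by
  rw [mem_E0, map_mul, map_mul, map_inv]
  refine (Subgroup.mem_normalizer_iff.1 (J4G.gK_normalizes ?_) _).1 he
  rw [← J4G.map_kpG]
  exact ⟨k, hk, rfl⟩

theorem path_lt {i : ℕ} (hi : i < 20) : ∀ g ∈ paths.getD i [], g < 6 := by
  have h := List.all_eq_true.1 path_checks (paths.getD i [])
    (by rw [List.getD_eq_getElem _ _ (by simp [paths]; omega)]; exact List.getElem_mem _)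
  simp only [Bool.and_eq_true, List.all_eq_true, Nat.blt_eq] at h
  exact h.1

theorem eG_inv (u : ℕ) : (eG u)⁻¹ = eG u :=
  @inv_eq_of_mul_eq_one_right GL2 inferInstance _ _ (J4G.eG_self u)

/-- No element of the elementary abelian subgroup but one fixes the chosen vertex of the sixth class. -/
theorem fix_thirteen {e : Cfsg.Spor.J4} (he : e ∈ E0)
    (h : e • el (paths.getD 13 []) • base = el (paths.getD 13 []) • base) : e = 1 := by
  obtain ⟨u, hu, hue⟩ := J4G.mem_gE.1 (mem_E0.1 he)
  have h1 := congrArg phi h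
  rw [phi_smul, phi_el (path_lt (by norm_num)), ev_path, map_inv, ← hue,
    eG_inv u] at h1
  have := moved hu h1
  subst this
  exact J4Kp.rho_injective (by rw [← hue, J4G.eG_zero, map_one])

/-- An element other than one fixes the chosen vertex of the fifth class. -/
theorem exists_fix_four : ∃ e ∈ E0, e ≠ 1 ∧ e • el (paths.getD 4 []) • base = el (paths.getD 4 []) • base := by
  obtain ⟨e, he, hre⟩ := exists_E0 1725
  refine ⟨e, he, fun h => ?_, ?_⟩
  · rw [h, map_one] at hre
    exact J4G.eG_ne_one (by norm_num : 1725 < 2048) (by norm_num) hre.symm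
  · refine phi_injective ?_
    rw [phi_smul, phi_el (path_lt (by norm_num)), ev_path, map_inv, hre,
      eG_inv _, ← applyE_spec]
    exact congrArg toRow (Nat.eq_of_beq_eq_true fix_four)

end CfsgLib.J4Orbits
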