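import Cfsg.Agent.Lib.J4Orbits.Count
import Cfsg.Agent.S5566

/-!
# The seven orbits in any group isomorphic to the presented Janko group J4
-/

set_option autoImplicit false
set_option maxRecDepth 100000

namespace CfsgLib.J4Orbits

open Cfsg.Spor CfsgLib.J4P CfsgLib.J4Index Matrix
open CfsgLib.J4G (Row GL2 eG gE)

theorem w0_ne : w0 ≠ 0 := by
  intro h
  have := congrFun h ⟨111, by norm_num⟩
  simp only [w0, toRow, v0P, Nat.testBit_two_pow_self, Pi.zero_apply] at this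
  exact one_ne_zero (show (1 : ZMod 2) = 0 from this)

theorem gE_fix {b : GL2} (hb : b ∈ gE) : w0 ᵥ* (b : Matrix (Fin 112) (Fin 112) (ZMod 2)) = w0 := by
  have h : b ∈ J4G.kpG.map rho := J4G.map_kpG ▸ J4G.gE_le hb
  obtain ⟨e, he, rfl⟩ := h
  exact kp_le_stabW he

theorem normalizer_E0 : Subgroup.normalizer (E0 : Set Cfsg.Spor.J4) = kp := by
  refine le_antisymm (fun k hk => mem_kp_iff.2 ?_) fun k hk => Subgroup.mem_normalizer_iff.2 fun e =>
    ⟨conj_E0 hk, fun h => by simpa [mul_assoc] using conj_E0 (inv_mem hk) h⟩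
  have hfix : ∀ b ∈ J4G.bsG, (w0 ᵥ* ((rho k : GL2) : Matrix (Fin 112) (Fin 112) (ZMod 2))) ᵥ*
      (b : Matrix (Fin 112) (Fin 112) (ZMod 2)) = w0 ᵥ* ((rho k : GL2) : Matrix _ _ (ZMod 2)) := by
    intro b hb
    have hbE := J4G.mem_of_bs hb
    obtain ⟨u, -, hu⟩ := J4G.mem_gE.1 hbE
    obtain ⟨e, he, hre⟩ := exists_E0 u
    have hc := mem_E0.1 ((Subgroup.mem_normalizer_iff.1 hk e).1 he)
    rw [map_mul, map_mul, map_inv, hre, hu] at hc
    rw [vecMul_vecMul, ← Units.val_mul, show rho k * b = (rho k * b * (rho k)⁻¹) * rho k by group,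
      Units.val_mul, ← vecMul_vecMul, gE_fix hc]
  refine J4G.fixed_unique hfix (fun b hb => gE_fix (J4G.mem_of_bs hb)) (fun h => w0_ne ?_) w0_ne
  have h2 := congrArg (· ᵥ* (((rho k)⁻¹ : GL2) : Matrix (Fin 112) (Fin 112) (ZMod 2))) h
  simpa [vecMul_vecMul] using h2

theorem card_E0 : Nat.card E0 = 2048 := by
  have h : E0.map rho = gE := by
    rw [E0, Subgroup.map_comap_eq, inf_eq_right]
    intro g hg
    obtain ⟨u, -, rfl⟩ := J4G.mem_gE.1 hg
    obtain ⟨e, -, he⟩ := exists_E0 u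
    exact ⟨e, he⟩
  rw [← Subgroup.card_map_of_injective J4Kp.rho_injective, h, J4G.card_gE]

theorem elementary_E0 : Cfsg.IsElementaryAbelian 2 E0 := by
  have key : ∀ a ∈ E0, ∃ u, rho a = eG u := fun a ha => by
    obtain ⟨u, -, hu⟩ := J4G.mem_gE.1 (mem_E0.1 ha)
    exact ⟨u, hu.symm⟩
  refine ⟨⟨⟨fun a b => Subtype.ext (J4Kp.rho_injective ?_)⟩⟩, fun a ha => J4Kp.rho_injective ?_⟩
  · obtain ⟨u, hu⟩ := key a a.2
    obtain ⟨w, hw⟩ := key b b.2
    show rho ((a : Cfsg.Spor.J4) * b) = rho ((b : Cfsg.Spor.J4) * a)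
    rw [map_mul, map_mul, hu, hw, ← J4G.eG_xor, ← J4G.eG_xor, Nat.xor_comm]
  · obtain ⟨u, hu⟩ := key a ha
    rw [map_pow, hu, map_one, pow_two, J4G.eG_self]

/-- The stated orbit structure at a subgroup. -/
def SevenAt {G : Type*} [Group G] (N : Subgroup G) : Prop :=
  N.index = 173067389 ∧ ∃ c : Fin 7 → G ⧸ N,
    (∀ i j : Fin 7, i ≠ j → MulAction.orbit ↥N (c i) ≠ MulAction.orbit ↥N (c j)) ∧
    (∀ q : G ⧸ N, ∃ i : Fin 7, q ∈ MulAction.orbit ↥N (c i)) ∧
    (List.ofFn fun i => (MulAction.orbit ↥N (c i)).ncard) =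
      [1, 15180, 28336, 3400320, 32643072, 54405120, 82575360]

theorem sevenAt_kp : SevenAt kp := ⟨index_kp, seven_orbits⟩

theorem SevenAt.transfer {A B : Type*} [Group A] [Group B] {K : Subgroup A} (h : SevenAt K) (f : A ≃* B)
    {L : Subgroup B} (hL : K.map f.toMonoidHom = L) : SevenAt L := by
  subst hL
  obtain ⟨hi, c, hne, hcov, hsz⟩ := h
  set L := K.map f.toMonoidHom
  let Ψ : A ⧸ K ≃ B ⧸ L := Quotient.congr f.toEquiv fun a b => by
    rw [QuotientGroup.leftRel_apply, QuotientGroup.leftRel_apply]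
    show a⁻¹ * b ∈ K ↔ (f a)⁻¹ * f b ∈ L
    rw [← map_inv, ← map_mul]
    exact (Subgroup.mem_map_iff_mem f.injective).symm
  have hk : ∀ (k : A) (q : A ⧸ K), Ψ (k • q) = f k • Ψ q := by
    intro k q
    induction q using QuotientGroup.induction_on with
    | H a =>
      show ((f (k * a) : B) : B ⧸ L) = ((f k * f a : B) : B ⧸ L)
      rw [map_mul]
  have horb : ∀ q, MulAction.orbit ↥L (Ψ q) = Ψ '' MulAction.orbit ↥K q := by
    intro q
    ext p
    constructor
    · rintro ⟨⟨_, k, hk', rfl⟩, rfl⟩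
      exact ⟨k • q, ⟨⟨k, hk'⟩, rfl⟩, hk k q⟩
    · rintro ⟨_, ⟨⟨k, hk'⟩, rfl⟩, rfl⟩
      exact ⟨⟨f k, k, hk', rfl⟩, (hk k q).symm⟩
  refine ⟨?_, fun i => Ψ (c i), fun i j hij he => hne i j hij ?_, fun q => ?_, ?_⟩
  · rw [Subgroup.index, ← Nat.card_congr Ψ]; exact hi
  · simp only [horb] at he
    exact Ψ.injective.image_injective he
  · obtain ⟨i, hi'⟩ := hcov (Ψ.symm q)
    exact ⟨i, by rw [horb]; exact ⟨_, hi', Ψ.apply_symm_apply q⟩⟩
  · rw [show (fun i => (MulAction.orbit ↥L (Ψ (c i))).ncard) = fun i => (MulAction.orbit ↥K (c i)).ncard from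
      funext fun i => by rw [horb, Set.ncard_image_of_injective _ Ψ.injective]]
    exact hsz

theorem map_normalizer {A B : Type*} [Group A] [Group B] (f : A ≃* B) (H : Subgroup A) :
    (Subgroup.normalizer (H : Set A)).map f.toMonoidHom =
      Subgroup.normalizer ((H.map f.toMonoidHom : Subgroup B) : Set B) :=
  Subgroup.map_equiv_normalizer_eq H f

open scoped Pointwise in
/-- The seven orbits at the normaliser of any elementary abelian subgroup of order 2^11. -/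
theorem sevenAt_of_iso {G : Type*} [Group G] [Finite G] [IsSimpleGroup G] (hG : ¬ IsMulCommutative G)
    (hJ : Cfsg.IsOfJankoFourType G) (e : Cfsg.Spor.J4 ≃* G) {V : Subgroup G}
    (hV : Cfsg.IsElementaryAbelian 2 V) (hcard : Nat.card V = 2 ^ 11) :
    SevenAt (Subgroup.normalizer (V : Set G)) := by
  set W := E0.map e.toMonoidHom with hW
  have hWc : Nat.card W = 2 ^ 11 := by
    rw [hW, Subgroup.card_map_of_injective e.injective, card_E0]; norm_num
  have hWe : Cfsg.IsElementaryAbelian 2 W := by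
    obtain ⟨hc, hp⟩ := elementary_E0
    refine ⟨⟨⟨?_⟩⟩, ?_⟩
    · rintro ⟨_, a, ha, rfl⟩ ⟨_, b, hb, rfl⟩
      exact Subtype.ext (show e a * e b = e b * e a by
        rw [← map_mul, ← map_mul, show a * b = b * a from congrArg Subtype.val (hc.is_comm.comm ⟨a, ha⟩ ⟨b, hb⟩)])
    · rintro _ ⟨a, ha, rfl⟩
      show e a ^ 2 = 1
      rw [← map_pow, hp a ha, map_one]
  obtain ⟨T, hT⟩ := (IsPGroup.of_card (p := 2) hcard).exists_le_sylow
  obtain ⟨T', hT'⟩ := (IsPGroup.of_card (p := 2) hWc).exists_le_sylow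
  obtain ⟨g, hg⟩ := MulAction.exists_smul_eq G T' T
  obtain ⟨U, -, huniq⟩ := Cfsg.Agent.S5566.result hG hJ T
  have hVU : V = W.map (MulAut.conj g).toMonoidHom := by
    refine (huniq V ⟨hT, hV, hcard⟩).trans (huniq _ ⟨?_, ?_, ?_⟩).symm
    · rw [← hg]
      exact Subgroup.map_mono hT'
    · refine ⟨⟨⟨?_⟩⟩, ?_⟩
      · rintro ⟨_, a, ha, rfl⟩ ⟨_, b, hb, rfl⟩
        exact Subtype.ext (show MulAut.conj g a * MulAut.conj g b = MulAut.conj g b * MulAut.conj g a by
          rw [← map_mul, ← map_mul, show a * b = b * a from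
            congrArg Subtype.val (hWe.1.is_comm.comm ⟨a, ha⟩ ⟨b, hb⟩)])
      · rintro _ ⟨a, ha, rfl⟩
        show MulAut.conj g a ^ 2 = 1
        rw [← map_pow, hWe.2 a ha, map_one]
    · rw [Subgroup.card_map_of_injective (MulAut.conj g).injective, hWc]
  refine sevenAt_kp.transfer (e.trans (MulAut.conj g)) ?_
  rw [← normalizer_E0, map_normalizer, hVU, hW, Subgroup.map_map]
  rfl

end CfsgLib.J4Orbits
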