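import Cfsg.Agent.Lib.J4Orbits.Data

/-!
# The vertices as paths, separated from the base point by the row
-/

set_option autoImplicit false
set_option maxRecDepth 100000

namespace CfsgLib.J4Orbits

open Cfsg.Spor CfsgLib.J4P CfsgLib.J4Index Matrix
open CfsgLib.J4G (Row GL2)

/-- The base point. -/
noncomputable abbrev base : Cfsg.Spor.J4 ⧸ kp := ((1 : Cfsg.Spor.J4) : Cfsg.Spor.J4 ⧸ kp)

theorem vert_step {q : Cfsg.Spor.J4 ⧸ kp} {P u : List ℕ} (hq : q = el P • base) (hu : okW u = true) :
    j4Ctx.t • j4Ctx.W u • q = el (4 :: (J4Index.flat u ++ P)) • base := by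
  rw [hq, W_el hu, el_cons, el_append, mul_smul, mul_smul]
  congr 1

theorem vert0 : v0 j4Ctx = el path0 • base := by
  rw [show el path0 = 1 from rfl, one_smul]
  rfl

theorem vert1 : v1 j4Ctx = el path1 • base := vert_step vert0 (by decide)

theorem vert2 : v2 j4Ctx = el path2 • base := vert_step vert1 (by decide)

theorem vert3 : v3 j4Ctx = el path3 • base := vert_step vert2 (by decide)

theorem vert4 : v4 j4Ctx = el path4 • base := vert_step vert1 (by decide)

theorem vert5 : v5 j4Ctx = el path5 • base := vert_step vert2 (by decide)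

theorem vert6 : v6 j4Ctx = el path6 • base := vert_step vert5 (by decide)

theorem vert7 : v7 j4Ctx = el path7 • base := vert_step vert6 (by decide)

theorem vert8 : v8 j4Ctx = el path8 • base := vert_step vert7 (by decide)

theorem vert9 : v9 j4Ctx = el path9 • base := vert_step vert8 (by decide)

theorem vert10 : v10 j4Ctx = el path10 • base := vert_step vert8 (by decide)

theorem vert11 : v11 j4Ctx = el path11 • base := vert_step vert10 (by decide)

theorem vert12 : v12 j4Ctx = el path12 • base := vert_step vert11 (by decide)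

theorem vert13 : v13 j4Ctx = el path13 • base := vert_step vert12 (by decide)

theorem vert14 : v14 j4Ctx = el path14 • base := vert_step vert12 (by decide)

theorem vert15 : v15 j4Ctx = el path15 • base := vert_step vert5 (by decide)

theorem vert16 : v16 j4Ctx = el path16 • base := vert_step vert5 (by decide)

theorem vert17 : v17 j4Ctx = el path17 • base := vert_step vert8 (by decide)

theorem vert18 : v18 j4Ctx = el path18 • base := vert_step vert2 (by decide)

theorem vert19 : v19 j4Ctx = el path19 • base := vert_step vert4 (by decide)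

theorem vert20 : v20 j4Ctx = el path20 • base := vert_step vert3 (by decide)

theorem vlist_eq : vlist j4Ctx = paths.map fun P => el P • base := by
  simp only [vlist, paths, List.map_cons, List.map_nil, vert0, vert1, vert2, vert3, vert4, vert5, vert6, vert7, vert8, vert9, vert10, vert12, vert13, vert14, vert15, vert16, vert17, vert18, vert19, vert20]
/-- Some bit of the two vectors differs. -/
def differs (a b : ℕ) : Bool := (List.range 112).any fun j => a.testBit j != b.testBit j

theorem toRow_ne {a b : ℕ} (h : differs a b = true) : toRow a ≠ toRow b := by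
  simp only [differs, List.any_eq_true, List.mem_range, bne_iff_ne] at h
  obtain ⟨j, hj, hne⟩ := h
  intro e
  have := congrFun e ⟨j, hj⟩
  simp only [toRow] at this
  revert this hne
  cases a.testBit j <;> cases b.testBit j <;> simp [bitZ]

theorem path_checks :
    (paths.all fun P => (P.all fun g => Nat.blt g 6) && (P.isEmpty || differs (ev P v0P) v0P)) = true := by
  decide +kernel

theorem eq_base_of_phi {q : Cfsg.Spor.J4 ⧸ kp} (h : phi q = w0) : q = base := by
  obtain ⟨g, rfl⟩ := MulAction.exists_smul_eq Cfsg.Spor.J4 base q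
  obtain ⟨m, hm, v, hv, e⟩ :=
    mem_union j4Ctx all_rows (v0_mem j4Ctx) (vlist_good j4Ctx) j4_gen g
  change m • v = g • base at e
  have hmk : m ∈ kp := by
    refine (Subgroup.closure_le _).2 ?_ hm
    rintro p (rfl | rfl)
    · exact ⟨J4.x, Subgroup.subset_closure (Or.inl rfl), rfl⟩
    · exact ⟨J4.y, Subgroup.subset_closure (Or.inr (Or.inl rfl)), rfl⟩
  rw [vlist_eq, List.mem_map] at hv
  obtain ⟨P, hP, rfl⟩ := hv
  have hc := List.all_eq_true.1 path_checks P hP
  simp only [Bool.and_eq_true, List.all_eq_true, Nat.blt_eq, Bool.or_eq_true] at hc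
  obtain ⟨hP6, hne⟩ := hc
  have hfix : ∀ p ∈ stabW, w0 ᵥ* ((rho p : GL2) : Matrix (Fin 112) (Fin 112) (ZMod 2)) = w0 :=
    fun p hp => hp
  have hv0 : toRow (ev P v0P) = w0 := by
    rw [← phi_el hP6]
    have h1 : phi (m⁻¹ • m • el P • base) = w0 := by
      rw [phi_smul, e, h, inv_inv, hfix m (kp_le_stabW hmk)]
    rwa [inv_smul_smul] at h1
  rcases hne with hnil | hd
  · rw [← e, List.isEmpty_iff.1 hnil, show el [] = 1 from rfl, one_smul, MulAction.Quotient.smul_coe,
      QuotientGroup.eq, smul_eq_mul, mul_one, mul_one]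
    exact inv_mem hmk
  · exact absurd hv0 (toRow_ne hd)

theorem phi_injective : Function.Injective phi := by
  intro p q h
  obtain ⟨g, rfl⟩ := MulAction.exists_smul_eq Cfsg.Spor.J4 base p
  have h1 : phi (g⁻¹ • q) = w0 := by
    rw [phi_smul, ← h, ← phi_smul, inv_smul_smul, phi_base]
  rw [← eq_base_of_phi h1, smul_inv_smul]

theorem mem_kp_iff {g : Cfsg.Spor.J4} : g ∈ kp ↔ g ∈ stabW := by
  refine ⟨fun h => kp_le_stabW h, fun h => ?_⟩
  have h1 : phi (g⁻¹ • base) = w0 := by
    rw [phi_smul, phi_base, inv_inv]
    exact h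
  have h2 := eq_base_of_phi h1
  rw [MulAction.Quotient.smul_coe, QuotientGroup.eq, smul_eq_mul, mul_one, mul_one, inv_inv] at h2
  exact h2

/-- The element of a list of segments. -/
noncomputable def segEl (L : List (Option (List ℕ))) : List ℕ := L.flatMap fun o => o.getD sWord

theorem segEl_mem : ∀ {L : List (Option (List ℕ))},
    (L.all fun o => (o.getD []).all fun g => Nat.blt g 4) = true → el (segEl L) ∈ kp
  | [], _ => by rw [segEl, List.flatMap_nil, show el [] = 1 from rfl]; exact one_mem _
  | o :: L, h => by
    simp only [List.all_cons, Bool.and_eq_true] at h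
    rw [segEl, List.flatMap_cons, el_append]
    refine mul_mem ?_ (segEl_mem h.2)
    cases o with
    | none =>
      rw [Option.getD_none, ← sEl_el, J4Kp.kp_eq]
      exact Subgroup.subset_closure (Or.inr (Or.inr rfl))
    | some w =>
      rw [Option.getD_some] at h ⊢
      rw [mem_kp_iff]
      refine kp_le_stabW ?_
      have hw : ∀ g ∈ w, g < 4 := by simpa [List.all_eq_true, Nat.blt_eq] using h.1
      clear h
      induction w with
      | nil => exact one_mem _
      | cons g w ih =>
        rw [el_cons]
        refine mul_mem ?_ (ih fun a ha => hw a (List.mem_cons_of_mem _ ha))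
        have hg := hw g List.mem_cons_self
        have hx : jg J4.Gen.x ∈ kp := ⟨J4.x, Subgroup.subset_closure (Or.inl rfl), rfl⟩
        have hy : jg J4.Gen.y ∈ kp := ⟨J4.y, Subgroup.subset_closure (Or.inr (Or.inl rfl)), rfl⟩
        interval_cases g
        · simpa [el, CfsgLib.HNxyz.evalW, eltL] using hx
        · simpa [el, CfsgLib.HNxyz.evalW, eltL] using inv_mem hx
        · simpa [el, CfsgLib.HNxyz.evalW, eltL] using hy
        · simpa [el, CfsgLib.HNxyz.evalW, eltL] using inv_mem hy

/-- The check of one join. -/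
noncomputable def joinOk (e : ℕ × ℕ × List (Option (List ℕ)) × List ℕ) : Bool :=
  match e with
  | (a, b, L, p) =>
    (L.all fun o => (o.getD []).all fun g => Nat.blt g 4) && (p.all fun g => Nat.blt g 4) &&
      ((segEl L ++ paths.getD a []).all fun g => Nat.blt g 6) &&
      ((p ++ paths.getD b []).all fun g => Nat.blt g 6) &&
      Nat.beq (ev (segEl L ++ paths.getD a []) v0P) (ev (p ++ paths.getD b []) v0P)

theorem joins_ok : (joins.all joinOk) = true := by decide +kernel

theorem join_orbit {a b : ℕ} {L : List (Option (List ℕ))} {p : List ℕ} (h : (a, b, L, p) ∈ joins) :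
    ∃ k ∈ kp, k • el (paths.getD a []) • base = el (paths.getD b []) • base := by
  have hc := List.all_eq_true.1 joins_ok _ h
  simp only [joinOk, Bool.and_eq_true, Nat.beq_eq] at hc
  obtain ⟨⟨⟨⟨h1, h2⟩, h3⟩, h4⟩, h5⟩ := hc
  have hp : el p ∈ kp := by
    have := segEl_mem (L := [some p]) (by simpa using h2)
    simpa [segEl] using this
  simp only [List.all_eq_true, Nat.blt_eq] at h3 h4
  refine ⟨(el p)⁻¹ * el (segEl L), mul_mem (inv_mem hp) (segEl_mem h1), ?_⟩
  rw [mul_smul, inv_smul_eq_iff, ← mul_smul, ← el_append, ← mul_smul, ← el_append]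
  refine phi_injective ?_
  rw [phi_el h3, phi_el h4, h5]

end CfsgLib.J4Orbits
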