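import Cfsg.Agent.Lib.J4Kp.Simple
import Cfsg.Agent.Lib.J4G.Fixed
import Cfsg.Agent.Lib.J4G.Stabiliser

/-!
# A fixed vector separates the points of the presented Janko group J4 from the base point
-/

set_option autoImplicit false
set_option maxRecDepth 100000

namespace CfsgLib.J4Orbits

open Cfsg.Spor Matrix CfsgLib.J4P CfsgLib.J4Index
open CfsgLib.J4G (Row GL2)
open CfsgLib.HNxyz (evalW evalW_nil evalW_cons)

/-- Packed vectors as rows. -/
def toRow (v : ℕ) : Row := fun j => bitZ (v.testBit j.val)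

/-- The element of a word in x, y, t and their inverses. -/
noncomputable def el (w : List ℕ) : Cfsg.Spor.J4 :=
  evalW (eltL [jg .x, jg .y, jg .t]) w

/-- The inverse letter. -/
def flipL (g : ℕ) : ℕ := if g % 2 = 0 then g + 1 else g - 1

/-- One step of the action on packed vectors. -/
def step (g v : ℕ) : ℕ := vmB (matJ.getD (flipL g) []) v

/-- The action of a word on packed vectors. -/
def ev (w : List ℕ) (v : ℕ) : ℕ := w.foldr step v

/-- The packed fixed vector. -/
def v0P : ℕ := 2 ^ 111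

theorem toRow_vmB {A : List ℕ} (hA : A.length = 112) (v : ℕ) :
    toRow (vmB A v) = toRow v ᵥ* toMatB 112 A := by
  funext j
  rw [toRow, vmB_spec, vecMul, dotProduct]
  refine Fintype.sum_equiv (finCongr hA) _ _ fun k => ?_
  simp only [finCongr_apply, toRow, toMatB, Matrix.of_apply, Fin.val_cast,
    List.getD_eq_getElem _ _ k.isLt]

theorem el_append (u v : List ℕ) : el (u ++ v) = el u * el v := by
  simp [el, evalW, List.map_append, List.prod_append]

theorem el_cons (g : ℕ) (w : List ℕ) : el (g :: w) = el [g] * el w := by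
  rw [← el_append]; rfl

theorem rho_letter {g : ℕ} (hg : g < 6) :
    ((rho (el [g])⁻¹ : GL2) : Matrix (Fin 112) (Fin 112) (ZMod 2)) = lm (flipL g) := by
  have e : el [g] = eltL [jg .x, jg .y, jg .t] g := by simp [el, evalW]
  rw [e, map_inv]
  interval_cases g <;> simp [eltL, jg, J4G.rho_of, lu, genLetter, flipL]

theorem toRow_ev : ∀ {w : List ℕ}, (∀ g ∈ w, g < 6) → ∀ v : ℕ,
    toRow (ev w v) = toRow v ᵥ* ((rho (el w)⁻¹ : GL2) : Matrix (Fin 112) (Fin 112) (ZMod 2))
  | [], _, v => by simp [ev, el, evalW]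
  | g :: w, hw, v => by
    have hg := hw g List.mem_cons_self
    have hp : flipL g < 6 := by interval_cases g <;> decide
    rw [show ev (g :: w) v = step g (ev w v) from rfl, step, toRow_vmB (J4G.rowsOk_mat hp).1,
      toRow_ev (fun a ha => hw a (List.mem_cons_of_mem _ ha)) v, el_cons g w, _root_.mul_inv_rev, map_mul,
      Units.val_mul, ← vecMul_vecMul, rho_letter hg]
    rfl

/-- The fixed row. -/
def w0 : Row := toRow v0P

/-- The elements fixing the row. -/
noncomputable def stabW : Subgroup Cfsg.Spor.J4 where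
  carrier := {p | w0 ᵥ* ((rho p : GL2) : Matrix (Fin 112) (Fin 112) (ZMod 2)) = w0}
  one_mem' := by simp
  mul_mem' := fun {a b} ha hb => by
    show w0 ᵥ* _ = w0
    rw [map_mul, Units.val_mul, ← vecMul_vecMul, ha, hb]
  inv_mem' := fun {a} ha => by
    show w0 ᵥ* _ = w0
    conv_lhs => rw [← (ha : w0 ᵥ* _ = w0)]
    rw [vecMul_vecMul, ← Units.val_mul, ← map_mul, mul_inv_cancel, map_one, Units.val_one, vecMul_one]

theorem mem_stabW {p : Cfsg.Spor.J4} :
    p ∈ stabW ↔ w0 ᵥ* ((rho p : GL2) : Matrix (Fin 112) (Fin 112) (ZMod 2)) = w0 := Iff.rfl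

theorem mem_stabW_of {w : List ℕ} (hw : ∀ g ∈ w, g < 6) (h : ev w v0P = v0P) : el w ∈ stabW := by
  rw [← inv_mem_iff, mem_stabW, w0, ← toRow_ev hw, h]

/-- The word of the third generator. -/
def sWord : List ℕ :=
  (J4Index.flat relV ++ 4 :: J4Index.flat relU) ++ (J4Index.flat relV ++ 4 :: J4Index.flat relU) ++
    (J4Index.flat relV ++ 4 :: J4Index.flat relU)

theorem evalW_low {w : List ℕ} (hw : ∀ g ∈ w, g < 4) :
    evalW (eltL [jg .x, jg .y]) w = el w := by
  induction w with
  | nil => rfl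
  | cons g w ih =>
    rw [el, evalW_cons, evalW_cons, ih fun a ha => hw a (List.mem_cons_of_mem _ ha), el]
    have := hw g List.mem_cons_self
    congr 1
    interval_cases g <;> rfl

theorem W_el {w : List ℕ} (h : okW w = true) : j4Ctx.W w = el (J4Index.flat w) := by
  show wv (jg .x) (jg .y) w = _
  rw [wv_flat, evalW_low (flat_lt h)]

theorem sEl_el : J4Kp.sEl = el sWord := by
  have e : el (J4Index.flat relV ++ 4 :: J4Index.flat relU) =
      el (J4Index.flat relV) * (jg .t * el (J4Index.flat relU)) := by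
    rw [el_append, el_cons]
    congr 2
  have hu : J4Kp.hCtx.W relU = el (J4Index.flat relU) := by
    show wv (jg .x) (jg .y) relU = _
    rw [wv_flat, evalW_low (flat_lt (by decide))]
  have hv : J4Kp.hCtx.W relV = el (J4Index.flat relV) := by
    show wv (jg .x) (jg .y) relV = _
    rw [wv_flat, evalW_low (flat_lt (by decide))]
  rw [J4Kp.sEl, sWord, el_append, el_append, e, hu, hv, pow_succ, pow_succ, pow_one]
  simp only [mul_assoc]
  rfl

theorem stab_checks :
    ([[0], [2], sWord].all fun w => (w.all fun g => Nat.blt g 6) && Nat.beq (ev w v0P) v0P) = true := by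
  decide +kernel

theorem kp_le_stabW : kp ≤ stabW := by
  rw [J4Kp.kp_eq, Subgroup.closure_le]
  have h := stab_checks
  simp only [List.all_cons, List.all_nil, Bool.and_true, Bool.and_eq_true, List.all_eq_true,
    Nat.blt_eq, Nat.beq_eq] at h
  obtain ⟨⟨hx, hx'⟩, ⟨hy, hy'⟩, hs, hs'⟩ := h
  rintro p (rfl | rfl | rfl)
  · have := mem_stabW_of (w := [0]) (by decide) hx'
    simpa [el, evalW, eltL] using this
  · have := mem_stabW_of (w := [2]) (by decide) hy'
    simpa [el, evalW, eltL] using this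
  · rw [SetLike.mem_coe, sEl_el]
    exact mem_stabW_of hs hs'

/-- The row of a point. -/
noncomputable def phi : Cfsg.Spor.J4 ⧸ kp → Row :=
  Quotient.lift (fun p => w0 ᵥ* ((rho p⁻¹ : GL2) : Matrix (Fin 112) (Fin 112) (ZMod 2))) fun a b h => by
    have hk : a⁻¹ * b ∈ stabW := kp_le_stabW (QuotientGroup.leftRel_apply.1 h)
    show w0 ᵥ* _ = w0 ᵥ* _
    conv_rhs => rw [← (hk : w0 ᵥ* _ = w0)]
    rw [vecMul_vecMul, ← Units.val_mul, ← map_mul, mul_inv_cancel_right]

theorem phi_smul (g : Cfsg.Spor.J4) (q : Cfsg.Spor.J4 ⧸ kp) :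
    phi (g • q) = phi q ᵥ* ((rho g⁻¹ : GL2) : Matrix (Fin 112) (Fin 112) (ZMod 2)) := by
  induction q using QuotientGroup.induction_on with
  | H a =>
    rw [MulAction.Quotient.smul_coe, smul_eq_mul]
    show w0 ᵥ* _ = (w0 ᵥ* _) ᵥ* _
    rw [vecMul_vecMul, ← Units.val_mul, ← map_mul, _root_.mul_inv_rev]

theorem phi_base : phi ((1 : Cfsg.Spor.J4) : Cfsg.Spor.J4 ⧸ kp) = w0 := by
  show w0 ᵥ* _ = w0
  rw [inv_one, map_one, Units.val_one, vecMul_one]

theorem phi_el {w : List ℕ} (hw : ∀ g ∈ w, g < 6) :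
    phi (el w • ((1 : Cfsg.Spor.J4) : Cfsg.Spor.J4 ⧸ kp)) = toRow (ev w v0P) := by
  rw [phi_smul, phi_base, toRow_ev hw, w0]

end CfsgLib.J4Orbits
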